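import Mathlib
import Groth.Agent.HensFormalLib.Apps

/-! Extensions of henselian discrete valuation rings with perfect residue field and the same
uniformizer, as directed unions of finite free algebras of `p`-power rank. -/

set_option autoImplicit false

universe u

namespace DvrPerfExt

open Polynomial

variable {R : Type u} [CommRing R] [IsDomain R] [IsDiscreteValuationRing R]
  {L : Type u} [Field L] [Algebra R L]

/-- The ingredients of the construction. -/
structure Good (π : R) (p : ℕ) (S : Subalgebra R L) : Prop where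
  free : ∀ s : Finset L, (↑s : Set L) ⊆ S → ∃ S0 : Subalgebra R L, S0 ≤ S ∧ (↑s : Set L) ⊆ S0 ∧
    Module.Finite R S0 ∧ Module.Free R S0 ∧ ∃ m : ℕ, Module.finrank R S0 = p ^ m
  dich : ∀ y : S, algebraMap R S π ∣ y ∨ IsUnit y
  pur : ∀ y : S, ∃ (m : ℕ) (r : R), algebraMap R S π ∣ algebraMap R S r - y ^ (p ^ m)

variable (hinj : Function.Injective (algebraMap R L)) {π : R} (hπ : Irreducible π) {p : ℕ}

include hinj hπ in
theorem dvd_of_integral {r : R} {w : L} (hw : IsIntegral R w) (h : algebraMap R L r = algebraMap R L π * w) :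
    π ∣ r := by
  obtain ⟨q, hq, hqw⟩ := hw
  have h1 : aeval (algebraMap R L π * w) (q.scaleRoots π) = 0 := scaleRoots_aeval_eq_zero hqw
  rw [← h, aeval_algebraMap_apply] at h1
  have h2 : (q.scaleRoots π).eval r = 0 := by
    apply hinj; rw [map_zero, ← coe_aeval_eq_eval]; exact h1
  let I : Ideal R := Ideal.span {π}
  haveI : I.IsPrime := (Ideal.span_singleton_prime hπ.ne_zero).2 hπ.prime
  have h3 : ((q.scaleRoots π).map (Ideal.Quotient.mk I)).eval (Ideal.Quotient.mk I r) = 0 := by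
    rw [eval_map, eval₂_hom, h2, map_zero]
  rw [map_scaleRoots _ _ _ (by rw [hq.leadingCoeff, map_one]; exact one_ne_zero),
    show Ideal.Quotient.mk I π = 0 from Ideal.Quotient.eq_zero_iff_mem.2 (Ideal.mem_span_singleton_self π),
    scaleRoots_zero, (hq.map _).leadingCoeff, one_smul, eval_pow, eval_X] at h3
  exact Ideal.mem_span_singleton.1 (Ideal.Quotient.eq_zero_iff_mem.1 (pow_eq_zero_iff'.1 h3).1)

theorem isIntegral_of_good {S : Subalgebra R L} (hS : Good π p S) (y : S) : IsIntegral R (y : L) := by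
  obtain ⟨S0, -, hy, hfin, -, -⟩ := hS.free {(y : L)} (by simp)
  haveI := hfin
  exact (Algebra.IsIntegral.isIntegral (R := R) (⟨y, hy (by simp)⟩ : S0)).map S0.val

theorem algebraIsIntegral {S : Subalgebra R L} (hS : Good π p S) : Algebra.IsIntegral R S :=
  ⟨fun y => (isIntegral_algHom_iff S.val Subtype.val_injective).1 (isIntegral_of_good hS y)⟩

include hinj hπ in
theorem dvd_iff_of_good {S : Subalgebra R L} (hS : Good π p S) {r : R} :
    algebraMap R S π ∣ algebraMap R S r ↔ π ∣ r := by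
  refine ⟨fun ⟨w, hw⟩ => dvd_of_integral hinj hπ (isIntegral_of_good hS w) ?_, fun h => map_dvd _ h⟩
  exact congrArg Subtype.val hw

include hinj hπ in
theorem not_isUnit_pi {S : Subalgebra R L} (hS : Good π p S) : ¬ IsUnit (algebraMap R S π) := fun h =>
  hπ.not_isUnit (isUnit_of_dvd_one ((dvd_iff_of_good hinj hπ hS).1 (by rw [map_one]; exact h.dvd)))

include hinj hπ in
theorem separated {S : Subalgebra R L} (hS : Good π p S) {y : S} (hy : ∀ n : ℕ, algebraMap R S π ^ n ∣ y) :
    y = 0 := by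
  by_contra hy0
  haveI := algebraIsIntegral hS
  have halg : IsAlgebraic R y := (Algebra.IsIntegral.isIntegral (R := R) y).isAlgebraic
  obtain ⟨r, hr, hdvd⟩ := halg.exists_nonzero_dvd (mem_nonZeroDivisors_of_ne_zero hy0)
  have hk : ∀ (n : ℕ) (r : R), algebraMap R S π ^ n ∣ algebraMap R S r → π ^ n ∣ r := by
    intro n
    induction n with
    | zero => intro r _; simp
    | succ n ih =>
      intro r h
      obtain ⟨r', rfl⟩ := (dvd_iff_of_good hinj hπ hS).1 ((dvd_pow_self _ n.succ_ne_zero).trans h)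
      rw [pow_succ', map_mul, mul_dvd_mul_iff_left] at h
      · rw [pow_succ']; exact mul_dvd_mul_left π (ih r' h)
      · intro h0; exact hπ.ne_zero (hinj ((congrArg Subtype.val h0).trans (map_zero _).symm))
  obtain ⟨n, hn⟩ := IsDiscreteValuationRing.associated_pow_irreducible hr hπ
  have h := hk (n + 1) r ((hy _).trans hdvd)
  rw [hn.dvd_iff_dvd_right, pow_dvd_pow_iff hπ.ne_zero hπ.not_isUnit] at h
  omega

include hinj hπ in
theorem good_bot : Good π p (⊥ : Subalgebra R L) where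
  free s hs := by
    let e : R ≃ₗ[R] (⊥ : Subalgebra R L) := (Algebra.botEquivOfInjective hinj).symm.toLinearEquiv
    refine ⟨⊥, le_rfl, hs, Module.Finite.equiv e, Module.Free.of_equiv e, 0, ?_⟩
    rw [← e.finrank_eq, Module.finrank_self, pow_zero]
  dich y := by
    obtain ⟨r, hr⟩ := Algebra.mem_bot.1 y.2
    obtain rfl : algebraMap R _ r = y := Subtype.ext hr
    by_cases h : IsUnit r
    · exact Or.inr (h.map _)
    · refine Or.inl (map_dvd _ ?_)
      rw [← Ideal.mem_span_singleton, ← hπ.maximalIdeal_eq]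
      exact h
  pur y := by
    obtain ⟨r, hr⟩ := Algebra.mem_bot.1 y.2
    obtain rfl : algebraMap R _ r = y := Subtype.ext hr
    exact ⟨0, r, by rw [pow_zero, pow_one, sub_self]; exact dvd_zero _⟩

theorem exists_ub (c : Set (Subalgebra R L)) (hc : IsChain (· ≤ ·) c) (hne : c.Nonempty)
    (hg : ∀ S ∈ c, Good π p S) : ∃ U, Good π p U ∧ ∀ S ∈ c, S ≤ U := by
  classical
  haveI := hne.to_subtype
  let t : c → Subalgebra R L := Subtype.val
  have hdir : Directed (· ≤ ·) t := hc.directedOn.directed_val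
  have hmem : ∀ x : L, x ∈ iSup t ↔ ∃ S : c, x ∈ (S : Subalgebra R L) := by
    intro x
    rw [← SetLike.mem_coe, Subalgebra.coe_iSup_of_directed hdir, Set.mem_iUnion]; rfl
  refine ⟨iSup t, ⟨fun s hs => ?_, fun y => ?_, fun y => ?_⟩, fun S hS => le_iSup t ⟨S, hS⟩⟩
  · obtain ⟨S, hS⟩ : ∃ S : c, (↑s : Set L) ⊆ (S : Subalgebra R L) := by
      induction s using Finset.induction_on with
      | empty => exact ⟨Classical.arbitrary _, by simp⟩
      | insert a s ha ih =>
        rw [Finset.coe_insert, Set.insert_subset_iff] at hs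
        obtain ⟨S1, h1⟩ := (hmem a).1 hs.1
        obtain ⟨S2, h2⟩ := ih hs.2
        obtain ⟨S, h13, h23⟩ := hdir S1 S2
        exact ⟨S, by rw [Finset.coe_insert, Set.insert_subset_iff]; exact ⟨h13 h1, h2.trans h23⟩⟩
    obtain ⟨S0, hle, hs0⟩ := (hg _ S.2).free s hS
    exact ⟨S0, hle.trans (le_iSup t S), hs0⟩
  · obtain ⟨S, hS⟩ := (hmem y).1 y.2
    rcases (hg _ S.2).dich ⟨y, hS⟩ with ⟨w, hw⟩ | hu
    · exact Or.inl ⟨⟨w, le_iSup t S w.2⟩, Subtype.ext (congrArg Subtype.val hw :)⟩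
    · exact Or.inr (by simpa using hu.map (Subalgebra.inclusion (le_iSup t S)))
  · obtain ⟨S, hS⟩ := (hmem y).1 y.2
    obtain ⟨m, r, w, hw⟩ := (hg _ S.2).pur ⟨y, hS⟩
    exact ⟨m, r, ⟨w, le_iSup t S w.2⟩, Subtype.ext (congrArg Subtype.val hw :)⟩

/-- `p`-th powers are additive modulo a divisor of `p`. -/
theorem dvd_sum_pow_sub {T : Type u} [CommRing T] {q : T} (hp : p.Prime) (hq : q ∣ (p : T))
    {ι : Type*} (s : Finset ι) (f : ι → T) : q ∣ (∑ i ∈ s, f i) ^ p - ∑ i ∈ s, f i ^ p := by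
  classical
  induction s using Finset.induction_on with
  | empty => simp [hp.ne_zero]
  | insert a s ha ih =>
    rw [Finset.sum_insert ha, Finset.sum_insert ha]
    obtain ⟨r, hr⟩ := exists_add_pow_prime_eq hp (f a) (∑ i ∈ s, f i)
    rw [hr, show ∀ a b c d : T, a + b + c - (a + d) = (b - d) + c by intros; ring]
    exact dvd_add ih (((hq.mul_right _).mul_right _).mul_right _)

theorem independent (hp : p.Prime) {k : Type u} [Field k] [CharP k p] (α : k) (hα : ∀ b, b ^ p ≠ α)
    (c : Fin p → k) (h : ∑ i : Fin p, c i ^ p * α ^ (i : ℕ) = 0) (i : Fin p) : c i = 0 := by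
  haveI := Fact.mk (X_pow_sub_C_irreducible_of_prime hp hα)
  haveI : Fact p.Prime := ⟨hp⟩
  haveI : CharP (AdjoinRoot (X ^ p - C α)) p :=
    charP_of_injective_algebraMap (algebraMap k (AdjoinRoot (X ^ p - C α))).injective p
  let g : Polynomial k := ∑ j : Fin p, C (c j) * X ^ (j : ℕ)
  have hw : AdjoinRoot.root (X ^ p - C α) ^ p = AdjoinRoot.of _ α := by
    rw [← sub_eq_zero, ← AdjoinRoot.mk_X, ← AdjoinRoot.mk_C, ← map_pow, ← map_sub, AdjoinRoot.mk_self]
  have hg : AdjoinRoot.mk (X ^ p - C α) g ^ p = 0 := by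
    simp only [g, map_sum, map_mul, map_pow, AdjoinRoot.mk_X, AdjoinRoot.mk_C, sum_pow_char, mul_pow]
    have hj : ∀ j : Fin p, (AdjoinRoot.root (X ^ p - C α) ^ (j : ℕ)) ^ p = AdjoinRoot.of _ α ^ (j : ℕ) := by
      intro j; rw [← pow_mul, mul_comm, pow_mul, hw]
    simp only [hj, ← map_pow, ← map_mul, ← map_sum, h, map_zero]
  have hg0 : g = 0 := by
    refine Polynomial.eq_zero_of_dvd_of_natDegree_lt (AdjoinRoot.mk_eq_zero.1 (pow_eq_zero_iff'.1 hg).1) ?_
    rw [natDegree_X_pow_sub_C]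
    refine (natDegree_sum_le_of_forall_le (n := p - 1) _ _ fun j _ => (natDegree_C_mul_X_pow_le _ _).trans
      (by omega)).trans_lt (Nat.sub_lt hp.pos Nat.one_pos)
  have := congrArg (fun q => Polynomial.coeff q (i : ℕ)) hg0
  simp only [g, finsetSum_coeff, coeff_C_mul, coeff_X_pow, coeff_zero] at this
  rwa [Finset.sum_eq_single i (fun j _ hj => by rw [if_neg (fun h => hj (Fin.ext h).symm), mul_zero])
    (fun h => absurd (Finset.mem_univ i) h), if_pos rfl, mul_one] at this

variable [HenselianLocalRing R]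

include hinj hπ in
/-- The one-step extension. -/
theorem exists_lt (hp : p.Prime) (hpπ : π ∣ (p : R)) [IsAlgClosed L] {S : Subalgebra R L}
    (hS : Good π p S) (a : S) (ha : ∀ c : S, ¬ algebraMap R S π ∣ c ^ p - a) :
    ∃ T : Subalgebra R L, S < T ∧ Good π p T := by
  classical
  obtain ⟨z, hz⟩ := IsAlgClosed.exists_pow_nat_eq (a : L) hp.pos
  let ext : Subalgebra R L → Subalgebra R L := fun S0 => (Algebra.adjoin S0 ({z} : Set L)).restrictScalars R
  have hle : ∀ S0, S0 ≤ ext S0 := fun S0 x hx =>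
    Subalgebra.algebraMap_mem (Algebra.adjoin S0 ({z} : Set L)) ⟨x, hx⟩
  have hzmem : ∀ S0, z ∈ ext S0 := fun S0 => Algebra.subset_adjoin rfl
  have hrep : ∀ (S0 : Subalgebra R L), (a : L) ∈ S0 → ∀ x ∈ ext S0,
      ∃ c : Fin p → S0, x = ∑ i, (c i : L) * z ^ (i : ℕ) := by
    intro S0 ha0 x hx
    haveI : Nontrivial S0 := inferInstance
    have hx' : x ∈ Algebra.adjoin S0 ({z} : Set L) := hx
    rw [Algebra.adjoin_singleton_eq_range_aeval] at hx'
    obtain ⟨q, rfl⟩ := hx'
    have hm : (X ^ p - C (⟨a, ha0⟩ : S0)).Monic := monic_X_pow_sub_C _ hp.ne_zero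
    have hroot : aeval z (X ^ p - C (⟨a, ha0⟩ : S0)) = 0 := by
      rw [map_sub, map_pow, aeval_X, aeval_C, hz]; exact sub_self _
    have hdeg : (q %ₘ (X ^ p - C (⟨a, ha0⟩ : S0))).natDegree < p := by
      rcases eq_or_ne (q %ₘ (X ^ p - C (⟨a, ha0⟩ : S0))) 0 with h0 | h0
      · rw [h0, natDegree_zero]; exact hp.pos
      · have := natDegree_modByMonic_lt q hm (fun h => by simpa [natDegree_X_pow_sub_C, hp.ne_zero] using congrArg natDegree h)
        rwa [natDegree_X_pow_sub_C] at this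
    refine ⟨fun i => (q %ₘ (X ^ p - C (⟨a, ha0⟩ : S0))).coeff i, ?_⟩
    show aeval z q = _
    rw [← aeval_modByMonic_eq_self_of_root hroot, aeval_eq_sum_range' hdeg, Finset.sum_range]
    rfl
  have hmemr : ∀ (S0 : Subalgebra R L) (c : Fin p → S0), ∑ i, (c i : L) * z ^ (i : ℕ) ∈ ext S0 :=
    fun S0 c => sum_mem fun i _ => mul_mem (hle S0 (c i).2) (pow_mem (hzmem S0) _)
  -- the residue field of `S`
  let I : Ideal S := Ideal.span {algebraMap R S π}
  haveI hImax : I.IsMaximal := Ideal.isMaximal_iff.2 ⟨fun h =>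
    not_isUnit_pi hinj hπ hS (isUnit_of_dvd_one (Ideal.mem_span_singleton.1 h)), fun J x hJ hxI hxJ => by
      rcases hS.dich x with h | h
      · exact absurd (Ideal.mem_span_singleton.2 h) hxI
      · rw [Ideal.eq_top_of_isUnit_mem J hxJ h]; trivial⟩
  have hkey : ∀ c : Fin p → S, algebraMap R S π ∣ ∑ i : Fin p, c i ^ p * a ^ (i : ℕ) →
      ∀ i, algebraMap R S π ∣ c i := by
    intro c hc i
    letI := Ideal.Quotient.field I
    have hp0 : (p : S ⧸ I) = 0 := by
      rw [← map_natCast (Ideal.Quotient.mk I), Ideal.Quotient.eq_zero_iff_mem, Ideal.mem_span_singleton,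
        ← map_natCast (algebraMap R S)]
      exact map_dvd _ hpπ
    haveI : CharP (S ⧸ I) p := (CharP.charP_iff_prime_eq_zero hp).2 hp0
    rw [← Ideal.mem_span_singleton, ← Ideal.Quotient.eq_zero_iff_mem]
    refine independent hp (Ideal.Quotient.mk I a) (fun b hb => ?_) (fun j => Ideal.Quotient.mk I (c j)) ?_ i
    · obtain ⟨b, rfl⟩ := Ideal.Quotient.mk_surjective b
      rw [← map_pow, Ideal.Quotient.eq, Ideal.mem_span_singleton] at hb
      exact ha b hb
    · simp only [← map_pow, ← map_mul, ← map_sum]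
      exact Ideal.Quotient.eq_zero_iff_mem.2 (Ideal.mem_span_singleton.2 hc)
  let ι : S →ₐ[R] ext S := Subalgebra.inclusion (hle S)
  let zT : ext S := ⟨z, hzmem S⟩
  have hzT : zT ^ p = ι a := Subtype.ext hz
  have hval : ∀ c : Fin p → S, ((∑ i, ι (c i) * zT ^ (i : ℕ) : ext S) : L) = ∑ i, (c i : L) * z ^ (i : ℕ) :=
    fun c => by simp [ι, zT]
  have hrepT : ∀ y : ext S, ∃ c : Fin p → S, y = ∑ i, ι (c i) * zT ^ (i : ℕ) := fun y => by
    obtain ⟨c, hc⟩ := hrep S a.2 y.1 y.2
    exact ⟨c, Subtype.ext (hc.trans (hval c).symm)⟩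
  haveI : Algebra.IsIntegral R (ext S) := ⟨fun y => by
    refine (isIntegral_algHom_iff (ext S).val Subtype.val_injective).1 ?_
    obtain ⟨c, hc⟩ := hrep S a.2 y.1 y.2
    show IsIntegral R y.1
    rw [hc]
    refine IsIntegral.sum _ fun i _ => (isIntegral_of_good hS (c i)).mul (IsIntegral.pow ?_ _)
    refine IsIntegral.of_pow hp.pos ?_
    rw [hz]; exact isIntegral_of_good hS a⟩
  haveI : IsLocalRing (ext S) := HensFormalLib.isLocalRing_of_integral_domain R (ext S)
  have hpiT : ¬ IsUnit (algebraMap R (ext S) π) := by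
    intro h
    obtain ⟨w, hw⟩ := isUnit_iff_exists_inv.1 h
    refine hπ.not_isUnit (isUnit_of_dvd_one (dvd_of_integral hinj hπ
      ((Algebra.IsIntegral.isIntegral (R := R) w).map (ext S).val) ?_))
    rw [map_one]; exact (congrArg Subtype.val hw).symm
  -- the congruence `y ^ p ≡ ∑ cᵢ ^ p * a ^ i`
  have hcong : ∀ c : Fin p → S, algebraMap R (ext S) π ∣
      (∑ i, ι (c i) * zT ^ (i : ℕ)) ^ p - ι (∑ i : Fin p, c i ^ p * a ^ (i : ℕ)) := by
    intro c
    have hq : algebraMap R (ext S) π ∣ (p : ext S) := by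
      rw [← map_natCast (algebraMap R (ext S))]; exact map_dvd _ hpπ
    convert dvd_sum_pow_sub hp hq Finset.univ fun i => ι (c i) * zT ^ (i : ℕ) using 2
    rw [map_sum]
    refine Finset.sum_congr rfl fun i _ => ?_
    rw [map_mul, map_pow, map_pow, mul_pow, ← hzT, ← pow_mul, ← pow_mul, mul_comm p]
  have hdvdS : ∀ t : S, algebraMap R (ext S) π ∣ ι t → algebraMap R S π ∣ t := by
    intro t ht
    rcases hS.dich t with h | h
    · exact h
    · exact absurd (isUnit_of_dvd_unit ht (h.map ι)) hpiT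
  have hind : ∀ c : Fin p → S, ∑ i, ι (c i) * zT ^ (i : ℕ) = 0 → ∀ i, c i = 0 := by
    intro c hc i
    suffices ∀ (n : ℕ) (c : Fin p → S), ∑ i, ι (c i) * zT ^ (i : ℕ) = 0 →
        ∀ i, algebraMap R S π ^ n ∣ c i from separated hinj hπ hS fun n => this n c hc i
    intro n
    induction n with
    | zero => intro c _ i; simp
    | succ n ih =>
      intro c hc i
      have h1 := hcong c
      rw [hc, zero_pow hp.ne_zero, zero_sub, dvd_neg] at h1
      choose d hd using hkey c (hdvdS _ h1)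
      have h2 : ∑ i, ι (d i) * zT ^ (i : ℕ) = 0 := by
        simp only [hd, map_mul, AlgHom.commutes, mul_assoc, ← Finset.mul_sum] at hc
        exact (mul_eq_zero.1 hc).resolve_left fun h => hπ.ne_zero (hinj ((congrArg Subtype.val h).trans (map_zero _).symm))
      rw [hd, pow_succ']
      exact mul_dvd_mul_left _ (ih d h2 i)
  refine ⟨ext S, lt_of_le_of_ne (hle S) fun h => ?_, ⟨fun s hs => ?_, fun y => ?_, fun y => ?_⟩⟩
  · have hzS : z ∈ S := by rw [h]; exact hzmem S
    refine ha ⟨z, hzS⟩ ?_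
    rw [show (⟨z, hzS⟩ : S) ^ p - a = 0 from sub_eq_zero.2 (Subtype.ext hz)]
    exact dvd_zero _
  · choose c hc using fun x : s => hrep S a.2 x.1 (hs x.2)
    obtain ⟨S0, hS0, hs0, hfin, hfree, m, hm⟩ := hS.free
      (insert (a : L) ((Finset.univ : Finset (s × Fin p)).image fun x => (c x.1 x.2 : L))) (by
        intro x hx
        rw [Finset.coe_insert, Set.mem_insert_iff, Finset.coe_image] at hx
        rcases hx with rfl | ⟨x, -, rfl⟩
        exacts [a.2, (c x.1 x.2).2])
    have ha0 : (a : L) ∈ S0 := hs0 (Finset.mem_insert_self _ _)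
    let f : (Fin p → S0) →ₗ[R] L :=
      { toFun := fun c => ∑ i, (c i : L) * z ^ (i : ℕ)
        map_add' := fun c d => by simp [add_mul, Finset.sum_add_distrib]
        map_smul' := fun r c => by simp [Finset.smul_sum] }
    have hfinj : Function.Injective f := by
      rw [injective_iff_map_eq_zero]
      intro d hd
      funext i
      have := hind (fun j => Subalgebra.inclusion hS0 (d j)) (Subtype.ext (by rw [hval]; exact hd)) i
      exact Subtype.ext (congrArg (fun x : S => (x : L)) this)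
    have hrange : LinearMap.range f = (ext S0).toSubmodule := by
      ext x
      constructor
      · rintro ⟨d, rfl⟩; exact hmemr S0 d
      · intro hx
        obtain ⟨d, hd⟩ := hrep S0 ha0 x hx
        exact ⟨d, hd.symm⟩
    let e : (Fin p → S0) ≃ₗ[R] ext S0 := (LinearEquiv.ofInjective f hfinj).trans
      ((LinearEquiv.ofEq _ _ hrange).trans (Subalgebra.toSubmoduleEquiv _))
    haveI := hfin; haveI := hfree
    refine ⟨ext S0, ?_, ?_, Module.Finite.equiv e, Module.Free.of_equiv e, m + 1, ?_⟩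
    · intro x hx
      obtain ⟨d, rfl⟩ := hrep S0 ha0 x hx
      exact hmemr S fun i => ⟨d i, hS0 (d i).2⟩
    · intro x hx
      show (⟨x, hx⟩ : s).1 ∈ ext S0
      rw [hc ⟨x, hx⟩]
      exact hmemr S0 fun i => ⟨c ⟨x, hx⟩ i, hs0 (Finset.mem_coe.2 (Finset.mem_insert_of_mem
        (Finset.mem_image.2 ⟨(⟨x, hx⟩, i), Finset.mem_univ _, rfl⟩)))⟩
    · rw [← e.finrank_eq, Module.finrank_pi_fintype]
      simp [hm, pow_succ']
  · obtain ⟨c, rfl⟩ := hrepT y
    rcases hS.dich (∑ i : Fin p, c i ^ p * a ^ (i : ℕ)) with h | h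
    · refine Or.inl (Finset.dvd_sum fun i _ => dvd_mul_of_dvd_left ?_ _)
      rw [← ι.commutes]; exact map_dvd ι (hkey c h i)
    · refine Or.inr ((isUnit_pow_iff hp.ne_zero).1 ?_)
      by_contra hnu
      have h1 : (∑ i, ι (c i) * zT ^ (i : ℕ)) ^ p ∈ IsLocalRing.maximalIdeal (ext S) := hnu
      obtain ⟨w, hw⟩ := hcong c
      have h2 : algebraMap R (ext S) π * w ∈ IsLocalRing.maximalIdeal (ext S) := Ideal.mul_mem_right _ _ hpiT
      rw [← hw] at h2
      exact (sub_sub_cancel _ (ι (∑ i : Fin p, c i ^ p * a ^ (i : ℕ))) ▸ sub_mem h1 h2 :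
        ι (∑ i : Fin p, c i ^ p * a ^ (i : ℕ)) ∈ IsLocalRing.maximalIdeal (ext S)) (h.map ι)
  · obtain ⟨c, rfl⟩ := hrepT y
    obtain ⟨m, r, hr⟩ := hS.pur (∑ i : Fin p, c i ^ p * a ^ (i : ℕ))
    refine ⟨m + 1, r, ?_⟩
    have h1 := map_dvd ι hr
    rw [map_sub, map_pow, ι.commutes, ι.commutes] at h1
    have h2 := (hcong c).trans (sub_dvd_pow_sub_pow _ _ (p ^ m))
    rw [← pow_mul, ← pow_succ'] at h2
    convert dvd_sub h1 h2 using 1
    ring

include hinj hπ in
/-- The maximal extension. -/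
theorem exists_perfect (hp : p = 1 ∨ p.Prime ∧ π ∣ (p : R)) [IsAlgClosed L] :
    ∃ S : Subalgebra R L, Good π p S ∧ ∀ y : S, ∃ c : S, algebraMap R S π ∣ c ^ p - y := by
  rcases hp with rfl | ⟨hp, hpπ⟩
  · exact ⟨⊥, good_bot hinj hπ, fun y => ⟨y, by rw [pow_one, sub_self]; exact dvd_zero _⟩⟩
  obtain ⟨S, hS⟩ := zorn_le₀ {S : Subalgebra R L | Good π p S} fun c hc hchain => by
    rcases c.eq_empty_or_nonempty with rfl | hne
    · exact ⟨⊥, good_bot hinj hπ, fun S hS => hS.elim⟩
    · obtain ⟨U, hU, hle⟩ := exists_ub c hchain hne fun S hS => hc hS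
      exact ⟨U, hU, hle⟩
  refine ⟨S, hS.prop, fun y => by_contra fun h => ?_⟩
  push Not at h
  obtain ⟨T, hlt, hT⟩ := exists_lt hinj hπ hp hpπ hS.prop y h
  exact hlt.not_ge (hS.le_of_ge hT hlt.le)

include hinj hπ in
theorem isDiscreteValuationRing {S : Subalgebra R L} (hS : Good π p S) : IsDiscreteValuationRing S := by
  classical
  have hirr : Irreducible (algebraMap R S π) := by
    refine ⟨not_isUnit_pi hinj hπ hS, fun a b hab => ?_⟩
    by_contra hc
    push Not at hc
    obtain ⟨a', rfl⟩ := (hS.dich a).resolve_right hc.1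
    obtain ⟨b', rfl⟩ := (hS.dich b).resolve_right hc.2
    have h0 : algebraMap R S π ≠ 0 := fun h => hπ.ne_zero (hinj ((congrArg Subtype.val h).trans (map_zero _).symm))
    exact not_isUnit_pi hinj hπ hS (isUnit_of_dvd_one ⟨a' * b', mul_left_cancel₀ h0 (by
      rw [mul_one]; exact hab.trans (by ring))⟩)
  refine IsDiscreteValuationRing.ofHasUnitMulPowIrreducibleFactorization ⟨_, hirr, fun {x} hx => ?_⟩
  have hex : ∃ n : ℕ, ¬ algebraMap R S π ^ (n + 1) ∣ x := by
    by_contra h
    push Not at h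
    exact hx (separated hinj hπ hS fun n => (pow_dvd_pow _ n.le_succ).trans (h n))
  have hn : algebraMap R S π ^ Nat.find hex ∣ x := by
    rcases h : Nat.find hex with _ | n
    · simp
    · exact not_not.1 (Nat.find_min hex (h ▸ n.lt_succ_self))
  obtain ⟨w, hw⟩ := hn
  refine ⟨Nat.find hex, ?_⟩
  rcases hS.dich w with hd | hu
  · exact absurd ((pow_succ (algebraMap R S π) (Nat.find hex)).symm ▸ ((mul_dvd_mul_left _ hd).trans hw.symm.dvd)) (Nat.find_spec hex)
  · exact ⟨hu.unit, hw.symm⟩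

end DvrPerfExt
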